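import Cfsg.Prelude.Def_Transfer
import Cfsg.Prelude.Def_Solvable
import Cfsg.Prelude.Def_Local
import Cfsg.Prelude.Def_Classical
import Mathlib.GroupTheory.SpecificGroups.Quaternion

/-!
# PSU₆(2) from a centraliser of an element of order three: data and stages

The hypotheses of the statement in a normal form, the frame on the subgroup `J` of order 81, the centraliser of
the involution of transvection type, and the statement of the tower step (the stage statements are in `Facts.lean`).
-/

set_option autoImplicit false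

open Subgroup

namespace Cfsg.Agent.U62Three

universe u

variable {G : Type u} [Group G]

/-- The hypotheses: `Q` extraspecial of order 243 in `C(z)`, self-centralising there, with a complement part
`Q₈ × Q₈` normal modulo `Q`; conjugates of `z` in `Q` are powers, some conjugate in `C(z)` is outside `Q`. -/
structure Hyp (z : G) (Q : Subgroup G) : Prop where
  oz : orderOf z = 3
  ext : IsExtraspecial 3 ↥Q
  card : Nat.card ↥Q = 3 ^ 5
  le : Q ≤ centralizer ({z} : Set G)
  centre : (center ↥Q).map Q.subtype = zpowers z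
  normal : centralizer ({z} : Set G) ≤ normalizer (Q : Set G)
  self : centralizer (Q : Set G) ≤ Q
  quat : ∃ P : Subgroup G, P ≤ centralizer ({z} : Set G) ∧ Nonempty (↥P ≃* QuaternionGroup 2 × QuaternionGroup 2) ∧
    centralizer ({z} : Set G) ≤ normalizer ((Q ⊔ P : Subgroup G) : Set G)
  weak : ∀ g : G, g * z * g⁻¹ ∈ Q → g * z * g⁻¹ ∈ zpowers z
  moved : ∃ g : G, g * z * g⁻¹ ∈ centralizer ({z} : Set G) ∧ g * z * g⁻¹ ∉ Q

/-- The frame: `j a b` plays `e_a - e_b` in the sum-zero vectors of length six over GF(3) modulo the constant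
vectors; `z` is `e₀ + e₁ + e₂`. -/
structure Frame (z : G) where
  /-- The root elements. -/
  j : Fin 6 → Fin 6 → G
  /-- The subgroup they generate. -/
  J : Subgroup G
  span : J = closure (Set.range fun x : Fin 6 × Fin 6 => j x.1 x.2)
  cube : ∀ a b, j a b * j a b * j a b = 1
  comm : ∀ a b c d, Commute (j a b) (j c d)
  cocycle : ∀ a b c, j a b * j b c = j a c
  card : Nat.card ↥J = 81
  hz : z = j 0 1 * j 2 1
  perm : ∀ σ : Equiv.Perm (Fin 6), ∃ n ∈ normalizer (J : Set G), ∀ a b, n * j a b * n⁻¹ = j (σ a) (σ b)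
  /-- `J` normalises no nontrivial subgroup of order prime to three. -/
  sig : ∀ X : Subgroup G, (Nat.card ↥X).Coprime 3 → J ≤ normalizer (X : Set G) → X = ⊥

/-- The conclusion on the centraliser of an involution of transvection type: `K` extraspecial of order 512,
self-centralising, and the quotient is `PSp₄(3)` or its automorphism group. -/
structure CentT (F : Type) [Field F] [Fintype F] (t : G) (K : Subgroup G) : Prop where
  ot : orderOf t = 2
  le : K ≤ centralizer ({t} : Set G)
  mem : t ∈ K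
  ext : IsExtraspecial 2 ↥K
  card : Nat.card ↥K = 2 ^ 9
  self : centralizer ({t} : Set G) ⊓ centralizer (K : Set G) ≤ K
  quot : ∃ (_ : (K.subgroupOf (centralizer ({t} : Set G))).Normal),
    Nonempty ((↥(centralizer ({t} : Set G)) ⧸ K.subgroupOf (centralizer ({t} : Set G))) ≃* PSp 2 F) ∨
      Nonempty ((↥(centralizer ({t} : Set G)) ⧸ K.subgroupOf (centralizer ({t} : Set G))) ≃* MulAut (PSp 2 F))

/-- The abstract unitary tower, used in stage C: an elementary abelian `V` normalised by `L`, every involution of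
`L` outside `V` commuting with an element of `L` that fixes one coset of `L`, and centralisers of
the members of `N` in `L`, forces `L = ⊤` (instances at ranks 2, 3, 4, see the cut note). -/
def TowerStmt : Prop :=
  ∀ (M : Type u) [Group M] [Finite M] (L V : Subgroup M) (N : Set M), V ≤ L →
    (∀ l ∈ L, ∀ k ∈ V, l * k * l⁻¹ ∈ V) → (∀ k ∈ V, k * k = 1) → (∀ x ∈ N, x ∈ V ∧ x ≠ 1) →
    (∀ l ∈ L, ∀ x ∈ N, l * x * l⁻¹ ∈ N) →
    (∀ j ∈ L, j * j = 1 → j ∉ V →
      ∃ x ∈ L, (∀ g : M, g * x * g⁻¹ ∈ L → g ∈ L) ∧ Commute x j) →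
    (∀ x ∈ N, ∀ g : M, Commute g x → g ∈ L) →
    (∀ x ∈ N, ∀ v ∈ V, ∀ g : M, g * x * g⁻¹ = v → ∃ l ∈ L, l * x * l⁻¹ = v) →
    (∀ U : Subgroup M, U ≤ V → U ≠ ⊥ → (∀ u ∈ U, u ∉ N) →
      ∃ x ∈ N, ∃ v ∈ N, ∀ l ∈ L, l ∈ centralizer (U : Set M) → l * x * l⁻¹ * v⁻¹ ∉ U) →
    (∃ x, x ∈ N) → (∃ s ∈ V, s ≠ 1 ∧ s ∉ N) → L = ⊤

end Cfsg.Agent.U62Three
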