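import Cfsg.Agent.U62Three.Defs

/-!
# PSU₆(2) from a centraliser of order three: the local facts and the stage statements

What stage A gives to the others, what stage B gives to stage C, and the statements of the stages.
-/

set_option autoImplicit false

open Subgroup

namespace Cfsg.Agent.U62Three

universe u

variable {G : Type u} [Group G]

/-- The two blocks of `C(z)`: `Q` is the product of `Q₁, Q₂`, the quaternion group `R i` is faithful on `Q i` and
centralises the other block, its involution inverting `Q i` modulo the centre. -/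
structure Blocks (z : G) (Q : Subgroup G) where
  /-- The blocks. -/
  Qi : Fin 2 → Subgroup G
  /-- The quaternion groups. -/
  R : Fin 2 → Subgroup G
  /-- Their involutions. -/
  t : Fin 2 → G
  cardQ : ∀ i, Nat.card ↥(Qi i) = 27
  cube : ∀ x ∈ Q, x ^ 3 = 1
  z_mem : ∀ i, z ∈ Qi i
  le : ∀ i, Qi i ≤ Q
  comm : ∀ i k, i ≠ k → ∀ x ∈ Qi i, ∀ y ∈ Qi k, Commute x y
  sup : Qi 0 ⊔ Qi 1 = Q
  centre : ∀ i, ∀ x ∈ Qi i, (∀ y ∈ Qi i, Commute x y) → x ∈ zpowers z
  quat : ∀ i, Nonempty (↥(R i) ≃* QuaternionGroup 2)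
  R_le : ∀ i, R i ≤ centralizer ({z} : Set G)
  R_norm : ∀ i k, R i ≤ normalizer (Qi k : Set G)
  R_cent : ∀ i k, i ≠ k → ∀ r ∈ R i, ∀ x ∈ Qi k, Commute r x
  R_comm : ∀ r ∈ R 0, ∀ s ∈ R 1, Commute r s
  t_mem : ∀ i, t i ∈ R i
  t_order : ∀ i, orderOf (t i) = 2
  t_inv : ∀ i, ∀ x ∈ Qi i, t i * x * (t i)⁻¹ * x ∈ zpowers z
  /-- `C(z)` permutes the blocks and normalises the preimage of the quaternion part. -/
  perm : ∀ g ∈ centralizer ({z} : Set G), ∀ i, ∃ k, ∀ x, x ∈ Qi i ↔ g * x * g⁻¹ ∈ Qi k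
  norm : centralizer ({z} : Set G) ≤ normalizer ((Q ⊔ R 0 ⊔ R 1 : Subgroup G) : Set G)
  dvd : Nat.card ↥(centralizer ({z} : Set G)) ∣ 3 ^ 5 * 2 ^ 7 * 3 ^ 2
  /-- `C(z)` is faithful on `Q` modulo the centre up to `Q`. -/
  kernel : ∀ g ∈ centralizer ({z} : Set G), (∀ x ∈ Q, g * x * g⁻¹ * x⁻¹ ∈ zpowers z) → g ∈ Q
  /-- `R i` acts without fixed points on its block modulo the centre. -/
  faith : ∀ i, ∀ r ∈ R i, ∀ x ∈ Qi i, x ∉ zpowers z → r * x * r⁻¹ * x⁻¹ ∈ zpowers z → r = 1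
  /-- An element preserving the blocks lies in the preimage of the quaternion part up to order three. -/
  odd : ∀ g ∈ centralizer ({z} : Set G), (∀ x ∈ Qi 0, g * x * g⁻¹ ∈ Qi 0) → g ^ 3 ∈ Q ⊔ R 0 ⊔ R 1

/-- The coordinates on `C(J)` when it has order 243: weight-one elements, with `j a b = e a / e b`. -/
structure Wide {z : G} (F : Frame z) where
  /-- The weight-one elements. -/
  e : Fin 6 → G
  cube : ∀ a, e a ^ 3 = 1
  comm : ∀ a b, Commute (e a) (e b)
  diff : ∀ a b, F.j a b = e a * (e b)⁻¹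
  span : centralizer (F.J : Set G) = closure (Set.range e)
  card : Nat.card ↥(centralizer (F.J : Set G)) = 243
  perm : ∀ σ : Equiv.Perm (Fin 6), ∃ n ∈ normalizer (F.J : Set G), ∀ a, n * e a * n⁻¹ = e (σ a)
  mono : ∀ n ∈ normalizer (F.J : Set G), ∃ σ : Equiv.Perm (Fin 6),
    (∀ a, n * e a * n⁻¹ = e (σ a)) ∨ ∀ a, n * e a * n⁻¹ = (e (σ a))⁻¹

/-- No element of the normaliser of `J` acts as minus a permutation (fails exactly when `G` has a subgroup of
index 2). -/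
def Plus {z : G} (F : Frame z) : Prop :=
  ∀ n ∈ normalizer (F.J : Set G), ∃ σ : Equiv.Perm (Fin 6), ∀ a b, n * F.j a b * n⁻¹ = F.j (σ a) (σ b)

/-- What stage A gives: the blocks, and the frame adapted to them. -/
structure Facts (z : G) (Q : Subgroup G) extends Blocks z Q where
  /-- The frame. -/
  F : Frame z
  /-- `J` meets the blocks in the differences inside the two triples. -/
  j_zero : F.j 0 1 ∈ Qi 0 ∧ F.j 1 2 ∈ Qi 0
  j_one : F.j 3 4 ∈ Qi 1 ∧ F.j 4 5 ∈ Qi 1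
  j_inf : ∀ x ∈ F.J, x ∈ Q → x ∈ closure ({F.j 0 1, F.j 1 2, F.j 3 4, F.j 4 5} : Set G)
  /-- `e₀ + e₁ + e₃` centralises in `Q` only the part inside `J`. -/
  centQ : ∀ x ∈ Q, Commute x (F.j 0 3 * F.j 1 3) → x ∈ F.J
  /-- The involutions act as transpositions. -/
  t_zero : ∀ a b, t 0 * F.j a b * (t 0)⁻¹ = F.j (Equiv.swap 0 1 a) (Equiv.swap 0 1 b)
  t_one : ∀ a b, t 1 * F.j a b * (t 1)⁻¹ = F.j (Equiv.swap 4 5 a) (Equiv.swap 4 5 b)
  /-- The conjugates of `z` in `J` are the twenty points. -/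
  points : ∀ g : G, g * z * g⁻¹ ∈ F.J →
    ∃ σ : Equiv.Perm (Fin 6), g * z * g⁻¹ = F.j (σ 0) (σ 1) * F.j (σ 2) (σ 1)
  /-- The normaliser of `J` acts monomially. -/
  mono : ∀ n ∈ normalizer (F.J : Set G), ∃ σ : Equiv.Perm (Fin 6),
    (∀ a b, n * F.j a b * n⁻¹ = F.j (σ a) (σ b)) ∨ ∀ a b, n * F.j a b * n⁻¹ = F.j (σ b) (σ a)
  /-- The centraliser of `J`: a group of order 81 or 243, the latter with coordinates. -/
  centJ : IsPGroup 3 ↥(centralizer (F.J : Set G))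
  narrow : ¬ 3 ^ 7 ∣ Nat.card ↥(centralizer ({z} : Set G)) → centralizer (F.J : Set G) = F.J
  wide : 3 ^ 7 ∣ Nat.card ↥(centralizer ({z} : Set G)) → Nonempty (Wide F)
  /-- Conjugates of `z` or of its inverse in `C(z)` outside `Q` are conjugate in `C(z)` to
  `e₀ + e₁ + e₃` or its inverse. -/
  moved : ∀ g : G, (g * z * g⁻¹ ∈ centralizer ({z} : Set G) ∧ g * z * g⁻¹ ∉ zpowers z) →
    ∃ h ∈ centralizer ({z} : Set G),
      h * (g * z * g⁻¹) * h⁻¹ = F.j 0 3 * F.j 1 3 ∨ h * (g * z * g⁻¹) * h⁻¹ = (F.j 0 3 * F.j 1 3)⁻¹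
  /-- Two orthogonal roots and `t₀` centralise only elements normalising `J`. -/
  centAA : centralizer ({F.j 2 4} : Set G) ⊓ centralizer ({F.j 3 5} : Set G) ⊓ centralizer ({t 0} : Set G) ≤
    normalizer (F.J : Set G)
  /-- In the narrow case two orthogonal roots centralise only elements normalising `J`. -/
  narrowAA : ¬ 3 ^ 7 ∣ Nat.card ↥(centralizer ({z} : Set G)) →
    centralizer ({F.j 2 4} : Set G) ⊓ centralizer ({F.j 3 5} : Set G) ≤ normalizer (F.J : Set G)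
  /-- The centralisers of the elements of type `(2,2,2)` in `C(t₀)`, when the Sylow order is `3⁶` and no element
  inverts the frame. -/
  centB : ¬ 3 ^ 7 ∣ Nat.card ↥(centralizer ({z} : Set G)) → Plus F →
    centralizer ({F.j 2 4 * F.j 3 5} : Set G) ⊓ centralizer ({t 0} : Set G) ≤ normalizer (F.J : Set G)

/-- The point `e₀ + e₁ + e_k`, commuting with the transposition of `0, 1`. -/
def Facts.pt {z : G} {Q : Subgroup G} (D : Facts z Q) (k : Fin 4) : G :=
  D.F.j 0 (Fin.natAdd 2 k) * D.F.j 1 (Fin.natAdd 2 k)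

/-- What stage B gives: at `t = t₀` the product `K` of four quaternion groups, the group `Z₃` of scalars
(trivial when the Sylow order is `3⁶`), and `L`, the normaliser in `C(t)` of `K` and of `K Z₃`. -/
structure Prep {z : G} {Q : Subgroup G} (D : Facts z Q) (K Z3 L : Subgroup G) where
  /-- The four quaternion groups. -/
  Rk : Fin 4 → Subgroup G
  Rk_zero : Rk 0 = D.R 0
  quat : ∀ k, Nonempty (↥(Rk k) ≃* QuaternionGroup 2)
  cent_pt : ∀ k, ∀ r ∈ Rk k, Commute r (D.pt k)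
  comm : ∀ k l, k ≠ l → ∀ r ∈ Rk k, ∀ s ∈ Rk l, Commute r s
  sup : K = ⨆ k, Rk k
  le : K ≤ centralizer ({D.t 0} : Set G)
  mem : D.t 0 ∈ K
  ext : IsExtraspecial 2 ↥K
  card : Nat.card ↥K = 2 ^ 9
  self : centralizer ({D.t 0} : Set G) ⊓ centralizer (K : Set G) ≤ K
  narrow : ¬ 3 ^ 7 ∣ Nat.card ↥(centralizer ({z} : Set G)) → Z3 = ⊥
  wide : ∀ W : Wide D.F, Z3 = zpowers (W.e 0 * W.e 1)
  hL : L = centralizer ({D.t 0} : Set G) ⊓ normalizer (K : Set G) ⊓ normalizer ((K ⊔ Z3 : Subgroup G) : Set G)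
  frame : centralizer (D.F.J : Set G) ⊓ centralizer ({D.t 0} : Set G) ≤ L
  normJ : normalizer (D.F.J : Set G) ⊓ centralizer ({D.t 0} : Set G) ≤ L
  centPt : ∀ k, centralizer ({D.pt k} : Set G) ⊓ centralizer ({D.t 0} : Set G) ≤ L
  /-- When the Sylow order is `3⁶`: centralisers and fusion in `C(t)` of the elements of `J` lie in `L`. -/
  rigid : ¬ 3 ^ 7 ∣ Nat.card ↥(centralizer ({z} : Set G)) → Plus D.F →
    ∀ x ∈ D.F.J, x ∈ centralizer ({D.t 0} : Set G) → x ≠ 1 →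
      ∀ g ∈ centralizer ({D.t 0} : Set G), g * x * g⁻¹ ∈ D.F.J → g ∈ L
  /-- The same fusion, inside the subgroup generated by `K`, the normaliser of `J` and the point centralisers
  (all inside `L`): this is what makes `L` semilinear on `K` modulo its centre. -/
  rigid0 : ¬ 3 ^ 7 ∣ Nat.card ↥(centralizer ({z} : Set G)) → Plus D.F →
    ∀ x ∈ D.F.J, x ∈ centralizer ({D.t 0} : Set G) → x ≠ 1 →
      ∀ g ∈ centralizer ({D.t 0} : Set G), g * x * g⁻¹ ∈ D.F.J →
        g ∈ K ⊔ (normalizer (D.F.J : Set G) ⊓ centralizer ({D.t 0} : Set G)) ⊔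
          ⨆ k, centralizer ({D.pt k} : Set G) ⊓ centralizer ({D.t 0} : Set G)

/-- Stage A. -/
def FactsStmt : Prop :=
  ∀ (G : Type u) [Group G] [Finite G] (z : G) (Q : Subgroup G), Hyp z Q → Nonempty (Facts z Q)

/-- Stage B. -/
def PrepStmt : Prop :=
  ∀ (G : Type u) [Group G] [Finite G] (z : G) (Q : Subgroup G), Hyp z Q → ∀ D : Facts z Q,
    ∃ K Z3 L : Subgroup G, Nonempty (Prep D K Z3 L)

/-- Stage C: the centraliser of `t`, when the Sylow order is `3⁶` and no element inverts the frame. -/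
def CentralStmt : Prop :=
  ∀ (G : Type u) [Group G] [Finite G] (z : G) (Q : Subgroup G), Hyp z Q →
    ¬ 3 ^ 7 ∣ Nat.card ↥(centralizer ({z} : Set G)) → ∀ (D : Facts z Q), Plus D.F → ∀ (K Z3 L : Subgroup G),
    Prep D K Z3 L → ∀ (F : Type) [Field F] [Fintype F], Fintype.card F = 3 →
      CentT F (D.t 0) K

/-- Stage D: from the other stages, applied to `G` and to its subgroups, the conclusion. -/
def FinalStmt : Prop :=
  FactsStmt.{u} → PrepStmt.{u} → CentralStmt.{u} →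
    ∀ (G : Type u) [Group G] [Finite G] (z : G) (Q : Subgroup G), Hyp z Q →
      ∃ (G₀ : Subgroup G) (F₄ : Type) (_ : Field F₄) (_ : Fintype F₄), G₀.Normal ∧ Fintype.card F₄ = 4 ∧
        Nonempty (↥G₀ ≃* PSU 6 F₄ 2) ∧ centralizer (G₀ : Set G) = ⊥

end Cfsg.Agent.U62Three
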