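import Cfsg.Agent.U62Three.Defs
import Cfsg.Agent.TwoClassClosed.Singular

/-!
# The step of the unitary tower
-/

set_option autoImplicit false

namespace Cfsg.Agent.U62Three

open TwoClassClosed

universe u

/-- Elements of the class `N` are rigid, so the two-class lemma applies. -/
theorem tower : TowerStmt.{u} := by
  intro M _ _ L V N hVL hnorm hsq hN hinv hinvol hcent hfus hpair ⟨x, hx⟩ ⟨s, hs, hs1, hsN⟩
  have hrigid : ∀ y ∈ N, Rigid L y := by
    intro y hy g hg
    by_cases hV : g * y * g⁻¹ ∈ V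
    · obtain ⟨l, hl, hl'⟩ := hfus y hy _ hV g rfl
      have h : Commute (l⁻¹ * g) y := by
        refine mul_inv_eq_iff_eq_mul.1 (Eq.trans ?_ (?_ : l⁻¹ * (l * y * l⁻¹) * l = y))
        · rw [hl']; group
        · group
      simpa using L.mul_mem hl (hcent y hy _ h)
    · have hj2 : g * y * g⁻¹ * (g * y * g⁻¹) = 1 := by
        rw [show g * y * g⁻¹ * (g * y * g⁻¹) = g * (y * y) * g⁻¹ by group, hsq y (hN y hy).1]
        group
      obtain ⟨e, he, herig, hej⟩ := hinvol _ hg hj2 hV
      have h : Commute (g⁻¹ * e * g) y := by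
        show g⁻¹ * e * g * y = y * (g⁻¹ * e * g)
        calc g⁻¹ * e * g * y = g⁻¹ * (e * (g * y * g⁻¹)) * g := by group
          _ = g⁻¹ * ((g * y * g⁻¹) * e) * g := by rw [hej.eq]
          _ = y * (g⁻¹ * e * g) := by group
      have h' := herig g⁻¹ (by simpa using hcent y hy _ h)
      simpa using L.inv_mem h'
  refine eq_top_of_singular hVL hnorm hsq (fun y hy => (hN y hy).1) hrigid hinv hpair
    (fun j hj hj2 hjV => ?_) hx hs hs1 hsN
  obtain ⟨e, he, herig, hej⟩ := hinvol j hj hj2 hjV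
  exact ⟨e, he, herig, hej⟩

end Cfsg.Agent.U62Three
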